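import Groth.Agent.Lib.DerivedOX.OpenSupport
import Groth.Agent.Lib.DerivedOX.RestrictRpush
import Mathlib.CategoryTheory.Monad.Adjunction

/-!
The direct image along an open immersion is fully faithful on derived categories.
-/

set_option autoImplicit false

universe u

open CategoryTheory Limits AlgebraicGeometry

attribute [local instance] HasDerivedCategory.standard

namespace Groth.Agent.Lib.KoszulOrth36.Counit

open Groth.Agent.Lib.DerivedOX

variable {X : Scheme.{u}} (U : X.Opens)

/-- Extension by zero followed by restriction is the identity. -/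
noncomputable def extZeroRestrictIso :
    CxOX.extZeroD U.ι ⋙ DCoh.restrictD U.ι ≅ 𝟭 (DCoh.D (U : Scheme.{u})) :=
  let u₀ : CxOX.extZero U.ι ⋙ Scheme.Modules.restrictFunctor U.ι ≅ 𝟭 _ :=
    (haveI : ∀ M, IsIso ((CxOX.extZeroAdj U.ι).unit.app M) := OpenSupport.isIso_unit_extZeroAdj U
     (NatIso.ofComponents (fun M => asIso ((CxOX.extZeroAdj U.ι).unit.app M))
       fun f => (CxOX.extZeroAdj U.ι).unit.naturality f)).symm
  let e : (CxOX.extZero U.ι).mapHomologicalComplex (.up ℤ) ⋙
      (Scheme.Modules.restrictFunctor U.ι).mapHomologicalComplex (.up ℤ) ≅ 𝟭 _ :=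
    NatIso.ofComponents (fun K => HomologicalComplex.Hom.isoOfComponents (fun i => u₀.app (K.X i))
      fun i j _ => (u₀.hom.naturality (K.d i j)).symm)
      fun f => HomologicalComplex.hom_ext _ _ fun i => u₀.hom.naturality (f.f i)
  letI : Localization.Lifting (DerivedCategory.Q (C := (U : Scheme.{u}).Modules))
      (HomologicalComplex.quasiIso (U : Scheme.{u}).Modules (.up ℤ))
      (((CxOX.extZero U.ι).mapHomologicalComplex (.up ℤ) ⋙
        (Scheme.Modules.restrictFunctor U.ι).mapHomologicalComplex (.up ℤ)) ⋙ DerivedCategory.Q)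
      (CxOX.extZeroD U.ι ⋙ DCoh.restrictD U.ι) :=
    ⟨(Functor.associator _ _ _).symm ≪≫
      Functor.isoWhiskerRight (CxOX.extZero U.ι).mapDerivedCategoryFactors _ ≪≫
      Functor.associator _ _ _ ≪≫
      Functor.isoWhiskerLeft _ (Scheme.Modules.restrictFunctor U.ι).mapDerivedCategoryFactors ≪≫
      (Functor.associator _ _ _).symm⟩
  letI : Localization.Lifting (DerivedCategory.Q (C := (U : Scheme.{u}).Modules))
      (HomologicalComplex.quasiIso (U : Scheme.{u}).Modules (.up ℤ))
      (𝟭 _ ⋙ DerivedCategory.Q) (𝟭 _) :=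
    ⟨Functor.rightUnitor _ ≪≫ (Functor.leftUnitor _).symm⟩
  Localization.liftNatIso DerivedCategory.Q (HomologicalComplex.quasiIso _ (.up ℤ)) _ _ _ _
    (Functor.isoWhiskerRight e DerivedCategory.Q)

theorem isIso_counit [DCoh.HasRpush U.ι] [PreservesFiniteLimits (Scheme.Modules.restrictFunctor U.ι)]
    (adj : DCoh.restrictD U.ι ⊣ DCoh.Rpush U.ι) : IsIso adj.counit := by
  let adj₁ : CxOX.extZeroD U.ι ⊣ DCoh.restrictD U.ι :=
    RestrictRpush.derivedAdjExact (CxOX.extZeroAdj U.ι)
  haveI : IsIso adj₁.unit := adj₁.isIso_unit_of_iso (extZeroRestrictIso U)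
  exact (Adjunction.Triple.mk adj₁ adj).isIso_unit_iff_isIso_counit.mp inferInstance

theorem isIso_restrict_unit [DCoh.HasRpush U.ι]
    [PreservesFiniteLimits (Scheme.Modules.restrictFunctor U.ι)]
    (adj : DCoh.restrictD U.ι ⊣ DCoh.Rpush U.ι) (E : DCoh.D X) :
    IsIso ((DCoh.restrictD U.ι).map (adj.unit.app E)) := by
  haveI := isIso_counit U adj
  refine ⟨adj.counit.app ((DCoh.restrictD U.ι).obj E), adj.left_triangle_components E, ?_⟩
  apply (cancel_mono (adj.counit.app ((DCoh.restrictD U.ι).obj E))).1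
  rw [Category.assoc, adj.left_triangle_components E, Category.id_comp]
  exact Category.comp_id _

end Groth.Agent.Lib.KoszulOrth36.Counit
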