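import Groth.Agent.Lib.KoszulOrth36.Algebra
import Groth.Agent.Lib.KoszulOrth36.Counit
import Groth.Agent.Lib.Perfect.TildeD
import Groth.Agent.Lib.DerivedOX.TildeEquiv
import Groth.Agent.Lib.DerivedOX.RpushTriangulated
import Groth.Agent.Lib.Modules.SupportOps
import Groth.Prelude.Def_Wider

/-!
Koszul orthogonality on `Spec A`: supports and the fibre of the unit `E ⟶ Rj_*(E|_U)`.
-/

set_option autoImplicit false
set_option linter.style.haveILetI false

universe u

open CategoryTheory Limits AlgebraicGeometry Pretriangulated TopologicalSpace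
open Groth.Agent.Lib

attribute [local instance] HasDerivedCategory.standard

namespace Groth.Agent.Lib.KoszulOrth36.Sheaf

section Ring

variable (R : CommRingCat.{u})

theorem subsingleton_sections_iff_aux (M : ModuleCat.{u} R) (f : R) :
    Subsingleton Γ((tilde.functor R).obj M, PrimeSpectrum.basicOpen f) ↔
      ∀ m : M, ∃ k : ℕ, f ^ k • m = 0 := by
  let φ := (tilde.toOpen M (PrimeSpectrum.basicOpen f)).hom
  haveI : IsLocalizedModule (Submonoid.powers f) φ :=
    inferInstanceAs (IsLocalizedModule.Away f (tilde.toOpen M (PrimeSpectrum.basicOpen f)).hom)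
  constructor
  · intro h m
    obtain ⟨⟨_, k, rfl⟩, hk⟩ := (IsLocalizedModule.eq_zero_iff (Submonoid.powers f) φ).1
      (show φ m = 0 from @Subsingleton.elim _ h _ _)
    exact ⟨k, hk⟩
  · intro h
    refine subsingleton_of_forall_eq 0 fun s => ?_
    obtain ⟨⟨m, c⟩, rfl⟩ := IsLocalizedModule.mk'_surjective (Submonoid.powers f) φ s
    obtain ⟨k, hk⟩ := h m
    exact (IsLocalizedModule.mk'_eq_zero' φ c).2 ⟨⟨f ^ k, k, rfl⟩, hk⟩

theorem isQuasicoherent_tilde (M : ModuleCat.{u} R) : ((tilde.functor R).obj M).IsQuasicoherent :=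
  (inferInstance : (tilde M).IsQuasicoherent)

variable [PreservesFiniteLimits (tilde.functor R)]

/-- `H^i(C~) = H^i(C)~`. -/
noncomputable def HI (C : Dual.D R) (i : ℤ) :
    DCoh.HD ((DCoh.tildeD R).obj C) i ≅
      (tilde.functor R).obj ((DerivedCategory.homologyFunctor (ModuleCat.{u} R) i).obj C) :=
  Perfect.TildeD.HIso C i

theorem isLE_tildeD_aux {C : Dual.D R} {n : ℤ} (h : C.IsLE n) : ((DCoh.tildeD R).obj C).IsLE n :=
  haveI : (tilde.functor R).Additive := inferInstance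
  DR.ExactPush.isLE_map _ h

theorem isLE_preimage_aux {C : Dual.D R} {n : ℤ} (h : ((DCoh.tildeD R).obj C).IsLE n) : C.IsLE n := by
  haveI := h
  rw [DerivedCategory.isLE_iff]
  intro i hi
  exact Perfect.TildeD.isZero_of_tilde ((DerivedCategory.isZero_of_isLE _ n i hi).of_iso
    (HI R C i).symm)

end Ring

variable (A : Type u) [CommRing A]

local notation "SA" => Spec (CommRingCat.of A)

theorem subsingleton_sections_iff (M : ModuleCat.{u} A) (f : A) :
    Subsingleton Γ((tilde.functor (CommRingCat.of A)).obj M, PrimeSpectrum.basicOpen f) ↔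
      ∀ m : M, ∃ k : ℕ, f ^ k • m = 0 :=
  subsingleton_sections_iff_aux (CommRingCat.of A) M f

variable (fs : List A)

/-- The complement of `V(f₁, …, f_r)`. -/
abbrev U : (Spec (CommRingCat.of A)).Opens := LocCoh.puncturedOpen A (Ideal.span {a | a ∈ fs})

theorem mem_U_iff (x : PrimeSpectrum A) : x ∈ U A fs ↔ ∃ f ∈ fs, f ∉ x.asIdeal := by
  change x ∈ (PrimeSpectrum.zeroLocus _)ᶜ ↔ _
  rw [Set.mem_compl_iff, PrimeSpectrum.mem_zeroLocus, SetLike.coe_subset_coe, Ideal.span_le,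
    Set.not_subset]
  rfl

theorem isZero_restrict_iff (M : ModuleCat.{u} A) :
    IsZero (((tilde.functor (CommRingCat.of A)).obj M).restrict (U A fs).ι) ↔
      ∀ f ∈ fs, ∀ m : M, ∃ k : ℕ, f ^ k • m = 0 := by
  let T := (tilde.functor (CommRingCat.of A)).obj M
  haveI hT : T.IsQuasicoherent := isQuasicoherent_tilde (CommRingCat.of A) M
  rw [← Modules.Support.support_eq_empty_iff, Modules.Support.support_restrict]
  constructor
  · intro h f hf
    rw [← subsingleton_sections_iff]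
    refine subsingleton_of_forall_eq 0 fun s =>
      Modules.Support.eq_zero_of_germ_eq_zero (M := T) s fun x hx hs => ?_
    exact absurd hs (Set.eq_empty_iff_forall_notMem.1 h ⟨x, (mem_U_iff A fs x).2 ⟨f, hf, hx⟩⟩)
  · intro h
    refine Set.eq_empty_iff_forall_notMem.2 fun ⟨x, hxU⟩ => ?_
    obtain ⟨f, hf, hx⟩ := (mem_U_iff A fs x).1 hxU
    have hV : IsAffineOpen (X := Spec (CommRingCat.of A)) (PrimeSpectrum.basicOpen f) :=
      IsAffineOpen.Spec_basicOpen (R := CommRingCat.of A) f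
    refine (Modules.SupportOps.not_mem_support_iff_forall_smul T hV hx).2 fun s => ⟨1, ?_, ?_⟩
    · exact ((Spec (CommRingCat.of A)).mem_basicOpen 1 x hx).2 (by simp)
    · rw [one_smul]
      exact @Subsingleton.elim _ ((subsingleton_sections_iff A M f).2 (h f hf)) _ _

variable [PreservesFiniteLimits (tilde.functor (CommRingCat.of A))]

local notation "T" => DCoh.tildeD (CommRingCat.of A)

theorem tors_of_isZero_restrict (C : Dual.D A)
    (hC : IsZero ((DCoh.restrictD (U A fs).ι).obj ((T).obj C))) :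
    ∀ f ∈ fs, ∀ (i : ℤ) (m : Dual.HD A C i), ∃ k : ℕ, f ^ k • m = 0 := by
  intro f hf i
  refine (isZero_restrict_iff A fs _).1 ?_ f hf
  exact ((DerivedCategory.homologyFunctor _ i).map_isZero hC).of_iso
    ((Scheme.Modules.restrictFunctor (U A fs).ι).mapIso (HI (CommRingCat.of A) C i).symm ≪≫
      (Perfect.Coherent.homologyIso (U A fs).ι _ i).symm)

theorem isZero_restrict_koszul :
    IsZero ((DCoh.restrictD (U A fs).ι).obj ((T).obj (Algebra.X fs))) := by
  refine DerivedOX.OpenSupport.isZero_of_homology _ fun i => IsZero.of_iso ?_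
    (Perfect.Coherent.homologyIso (U A fs).ι _ i ≪≫
      (Scheme.Modules.restrictFunctor (U A fs).ι).mapIso (HI (CommRingCat.of A) (Algebra.X fs) i))
  refine (isZero_restrict_iff A fs _).2 fun f hf m => ?_
  obtain ⟨p, hp⟩ := Algebra.exists_smul_id_eq_zero fs f hf
  refine ⟨p, ?_⟩
  rw [← DMod.Cones.mapHD_smul_id (Algebra.X fs) (f ^ p) i m, hp]
  simp [DMod.Basic.mapHD]

theorem isLE_tildeD {C : Dual.D A} {n : ℤ} (h : C.IsLE n) : ((T).obj C).IsLE n :=
  isLE_tildeD_aux (CommRingCat.of A) h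

theorem isLE_preimage {C : Dual.D A} {n : ℤ} (h : ((T).obj C).IsLE n) : C.IsLE n :=
  isLE_preimage_aux (CommRingCat.of A) h

section Unit

variable [PreservesFiniteLimits (Scheme.Modules.restrictFunctor (U A fs).ι)]
  [DCoh.HasRpush (U A fs).ι]
  (adj : DCoh.restrictD (U A fs).ι ⊣ DCoh.Rpush (U A fs).ι)

/-- The Koszul object on `Spec A`. -/
noncomputable abbrev K : DCoh.D (Spec (CommRingCat.of A)) :=
  (T).obj (DerivedCategory.Q.obj (Koszul.koszul A fs))

include adj in
theorem subsingleton_hom_Rpush (n : ℤ) (F : DCoh.D (U A fs : Scheme.{u})) :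
    Subsingleton ((K A fs)⟦n⟧ ⟶ (DCoh.Rpush (U A fs).ι).obj F) := by
  have hz : IsZero ((DCoh.restrictD (U A fs).ι).obj ((K A fs)⟦n⟧)) :=
    ((shiftFunctor _ n).map_isZero (isZero_restrict_koszul A fs)).of_iso
      (((DCoh.restrictD (U A fs).ι).commShiftIso n).app _)
  haveI : Subsingleton ((DCoh.restrictD (U A fs).ι).obj ((K A fs)⟦n⟧) ⟶ F) :=
    ⟨fun a b => hz.eq_of_src a b⟩
  exact (adj.homEquiv _ _).symm.subsingleton

/-- The fibre of the unit: a torsion object of `D(A)`. -/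
theorem exists_fibre (E : DCoh.D (Spec (CommRingCat.of A))) (hE : DCoh.IsQCohD E)
    (hR : DCoh.IsQCohD ((DCoh.Rpush (U A fs).ι).obj ((DCoh.restrictD (U A fs).ι).obj E))) :
    ∃ (C : Dual.D A) (ι : (T).obj C ⟶ E)
      (δ : (DCoh.Rpush (U A fs).ι).obj ((DCoh.restrictD (U A fs).ι).obj E) ⟶ ((T).obj C)⟦(1 : ℤ)⟧),
      Triangle.mk ι (adj.unit.app E) δ ∈ distTriang (DCoh.D (Spec (CommRingCat.of A))) ∧
      (∀ f ∈ fs, ∀ (i : ℤ) (m : Dual.HD A C i), ∃ k : ℕ, f ^ k • m = 0) := by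
  obtain ⟨Z, a, b, hT⟩ := distinguished_cocone_triangle₁ (adj.unit.app E)
  have hqc : ∀ {P Q : DCoh.D (Spec (CommRingCat.of A))}, (P ≅ Q) → DCoh.IsQCohD P → DCoh.IsQCohD Q :=
    fun e h j => (WayOut.Scheme.qc _).prop_of_iso ((DerivedCategory.homologyFunctor _ j).mapIso e) (h j)
  have hshift : ∀ (P : DCoh.D (Spec (CommRingCat.of A))) (k : ℤ), DCoh.IsQCohD P → DCoh.IsQCohD (P⟦k⟧) :=
    fun P k h j => (WayOut.Scheme.qc _).prop_of_iso
      ((((DerivedCategory.homologyFunctor _ 0).shiftIso k j (k + j) rfl).app P).symm) (h (k + j))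
  have hZ : DCoh.IsQCohD Z := by
    have h := hshift _ (-1) (DerivedOX.TildeEquiv.isQCohD_mor₃ _ (rot_of_distTriang _ hT) hE hR)
    exact hqc ((shiftFunctorCompIsoId (DCoh.D _) (1 : ℤ) (-1) (by lia)).app Z) h
  obtain ⟨C, ⟨e⟩⟩ := DerivedOX.TildeEquiv.exists_preimage (CommRingCat.of A) Z hZ
  refine ⟨C, e.hom ≫ a, b ≫ e.inv⟦(1 : ℤ)⟧', isomorphic_distinguished _ hT _
    (Triangle.isoMk _ _ e (Iso.refl _) (Iso.refl _) (Category.comp_id _)
      ((Category.comp_id _).trans (Category.id_comp _).symm) ((Category.assoc _ _ _).trans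
        ((congrArg (b ≫ ·) (((shiftFunctor (DCoh.D _) (1 : ℤ)).map_comp e.inv e.hom).symm.trans
          ((congrArg _ e.inv_hom_id).trans ((shiftFunctor (DCoh.D _) (1 : ℤ)).map_id _)))).trans
          ((Category.comp_id b).trans (Category.id_comp b).symm)))),
    tors_of_isZero_restrict A fs C ?_⟩
  have hu := Counit.isIso_restrict_unit (U A fs) adj E
  have hT' := (DCoh.restrictD (U A fs).ι).map_distinguished _ hT
  exact ((Triangle.isZero₁_iff_isIso₂ _ hT').2 hu).of_iso ((DCoh.restrictD (U A fs).ι).mapIso e)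

theorem isZero_H_fibre {E : DCoh.D (Spec (CommRingCat.of A))} {C : Dual.D A} {ι : (T).obj C ⟶ E}
    {δ : (DCoh.Rpush (U A fs).ι).obj ((DCoh.restrictD (U A fs).ι).obj E) ⟶ ((T).obj C)⟦(1 : ℤ)⟧}
    (hT : Triangle.mk ι (adj.unit.app E) δ ∈ distTriang (DCoh.D (Spec (CommRingCat.of A))))
    (htor : ∀ f ∈ fs, ∀ (i : ℤ) (m : Dual.HD A C i), ∃ k : ℕ, f ^ k • m = 0) (n : ℤ)
    (h : ∀ φ : (K A fs)⟦-n⟧ ⟶ E, φ = 0) :
    IsZero ((DerivedCategory.homologyFunctor _ n).obj ((T).obj C)) := by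
  haveI := DerivedOX.TildeEquiv.faithful (CommRingCat.of A)
  have h1 : Subsingleton ((Algebra.X fs)⟦-n⟧ ⟶ C) := subsingleton_of_forall_eq 0 fun φ => by
    let φ' : (K A fs)⟦-n⟧ ⟶ (T).obj C := ((T).commShiftIso (-n)).inv.app _ ≫ (T).map φ
    obtain ⟨g, hg⟩ := Triangle.coyoneda_exact₂ _ (inv_rot_of_distTriang _ hT) φ' (h _)
    let R := (DCoh.Rpush (U A fs).ι).obj ((DCoh.restrictD (U A fs).ι).obj E)
    let g' : (K A fs)⟦-n⟧ ⟶ R⟦(-1 : ℤ)⟧ := g
    haveI : Subsingleton ((K A fs)⟦-n⟧ ⟶ R⟦(-1 : ℤ)⟧) := by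
      haveI := subsingleton_hom_Rpush A fs adj (-n + 1) ((DCoh.restrictD (U A fs).ι).obj E)
      exact ((shiftEquiv (DCoh.D _) (1 : ℤ)).toAdjunction.homEquiv _ _).symm.trans
        (Iso.homCongr ((shiftFunctorAdd' (DCoh.D _) (-n) 1 (-n + 1) rfl).app (K A fs)).symm (Iso.refl R))
        |>.subsingleton
    have hg0 : g' = 0 := Subsingleton.elim _ _
    have h0 : φ' = 0 := hg.trans ((congrArg (· ≫ _) (show g = 0 from hg0)).trans zero_comp)
    have h00 : (T).map φ = 0 := zero_of_epi_comp _ h0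
    exact (T).map_injective (by rw [h00, Functor.map_zero])
  have h2 := Algebra.subsingleton_HD C n fs htor h1
  exact IsZero.of_iso (Functor.map_isZero _ (ModuleCat.isZero_iff_subsingleton.2 h2))
    (HI (CommRingCat.of A) C n)

end Unit

end Groth.Agent.Lib.KoszulOrth36.Sheaf
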