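import Groth.Agent.Lib.DerCat.TStruct

/-!
Truncations of morphisms inducing isomorphisms in a range of degrees.
-/

set_option autoImplicit false

universe w v u

open CategoryTheory Limits Pretriangulated DerivedCategory

namespace Groth.Agent.Lib.KoszulOrth36.Trunc

variable {A : Type u} [Category.{v} A] [Abelian A] [HasDerivedCategory.{w} A]

open Groth.Agent.Lib.DerCat.TStruct

theorem isIso_truncGE_map {X Y : DerivedCategory A} (f : X ⟶ Y) (n : ℤ)
    (h : ∀ i, n ≤ i → IsIso ((homologyFunctor A i).map f)) :
    IsIso ((TStructure.t.truncGE n).map f) := by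
  rw [DerivedCategory.isIso_iff]
  intro i
  by_cases hi : n ≤ i
  · have hπ : ∀ Z : DerivedCategory A,
        IsIso ((homologyFunctor A i).map ((TStructure.t.truncGEπ n).app Z)) := fun Z =>
      @isIso_homologyMap_mor₂ _ _ _ _ _ (TStructure.t.triangleLTGE_distinguished n Z) (n - 1)
        (inferInstance : TStructure.t.IsLE ((TStructure.t.truncLT n).obj Z) (n - 1)) i (by omega)
    have := hπ X
    have := hπ Y
    have := h i hi
    have e : (homologyFunctor A i).map ((TStructure.t.truncGEπ n).app X) ≫
        (homologyFunctor A i).map ((TStructure.t.truncGE n).map f) =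
          (homologyFunctor A i).map f ≫ (homologyFunctor A i).map ((TStructure.t.truncGEπ n).app Y) := by
      rw [← Functor.map_comp, ← Functor.map_comp, TStructure.t.truncGEπ_naturality]
    exact IsIso.of_isIso_fac_left e
  · exact ⟨0, (isZero_of_isGE ((TStructure.t.truncGE n).obj X) n i (by omega)).eq_of_src _ _,
      (isZero_of_isGE ((TStructure.t.truncGE n).obj Y) n i (by omega)).eq_of_src _ _⟩

theorem isIso_truncLE_map {X Y : DerivedCategory A} (f : X ⟶ Y) (n : ℤ)
    (h : ∀ i, i ≤ n → IsIso ((homologyFunctor A i).map f)) :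
    IsIso ((TStructure.t.truncLE n).map f) := by
  rw [DerivedCategory.isIso_iff]
  intro i
  by_cases hi : i ≤ n
  · have hι : ∀ Z : DerivedCategory A,
        IsIso ((homologyFunctor A i).map ((TStructure.t.truncLEι n).app Z)) := fun Z =>
      @isIso_homologyMap_mor₁ _ _ _ _ _ (TStructure.t.triangleLEGT_distinguished n Z) (n + 1)
        (inferInstance : TStructure.t.IsGE ((TStructure.t.truncGT n).obj Z) (n + 1)) i (by omega)
    have := hι X
    have := hι Y
    have := h i hi
    have e : (homologyFunctor A i).map ((TStructure.t.truncLE n).map f) ≫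
        (homologyFunctor A i).map ((TStructure.t.truncLEι n).app Y) =
          (homologyFunctor A i).map ((TStructure.t.truncLEι n).app X) ≫ (homologyFunctor A i).map f := by
      rw [← Functor.map_comp, ← Functor.map_comp, (TStructure.t.truncLEι n).naturality f]
      rfl
    exact IsIso.of_isIso_fac_right e
  · exact ⟨0, (isZero_of_isLE ((TStructure.t.truncLE n).obj X) n i (by omega)).eq_of_src _ _,
      (isZero_of_isLE ((TStructure.t.truncLE n).obj Y) n i (by omega)).eq_of_src _ _⟩

theorem isIso_homologyMap_mor₂_of_isZero (T : Triangle (DerivedCategory A))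
    (hT : T ∈ distTriang (DerivedCategory A)) (i : ℤ)
    (h₀ : IsZero ((homologyFunctor A i).obj T.obj₁))
    (h₁ : IsZero ((homologyFunctor A (i + 1)).obj T.obj₁)) :
    IsIso ((homologyFunctor A i).map T.mor₂) := by
  have : Epi ((homologyFunctor A i).map T.mor₂) :=
    (HomologySequence.epi_homologyMap_mor₂_iff T hT i (i + 1) rfl).2 (h₁.eq_of_tgt _ _)
  have : Mono ((homologyFunctor A i).map T.mor₂) :=
    (HomologySequence.mono_homologyMap_mor₂_iff T hT i).2 (h₀.eq_of_src _ _)
  exact isIso_of_mono_of_epi _

end Groth.Agent.Lib.KoszulOrth36.Trunc
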