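import Groth.Agent.Lib.DMod.Basic
import Groth.Agent.Lib.DMod.Cones
import Groth.Agent.Lib.DR.Basic
import Groth.Prelude.Def_Koszul

/-!
Morphisms out of translates of Koszul complexes in `D(A)`.
-/

universe u

open CategoryTheory CategoryTheory.Limits Pretriangulated
open Groth.Agent.Lib.DMod.Basic

attribute [local instance] HasDerivedCategory.standard

namespace Groth.Agent.Lib.KoszulOrth36.Algebra

variable {A : Type u} [CommRing A]

/-- The Koszul object of a list. -/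
noncomputable abbrev X (l : List A) : Dual.D A := DerivedCategory.Q.obj (Koszul.koszul A l)

theorem exists_triangle (f : A) (l : List A) :
    ∃ (g : X l ⟶ X (f :: l)) (h : X (f :: l) ⟶ (X l)⟦(1 : ℤ)⟧),
      Triangle.mk (f • 𝟙 (X l)) g h ∈ distTriang (Dual.D A) := by
  have e : DerivedCategory.Q.map (f • 𝟙 (Koszul.koszul A l)) = f • 𝟙 (X l) :=
    (DerivedCategory.Q.map_smul _ _).trans (congrArg _ (DerivedCategory.Q.map_id _))
  rw [← e]
  exact ⟨_, _, DerivedCategory.mappingCone_triangle_distinguished _⟩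

/-- The Koszul object of the empty list is `A`. -/
noncomputable def nilIso : X ([] : List A) ≅ Dual.inD A A :=
  ((DerivedCategory.singleFunctorIsoCompQ (ModuleCat.{u} A) 0).app (ModuleCat.of A A)).symm

/-- Morphisms out of translates of `X []`. -/
noncomputable def homNilEquiv (C : Dual.D A) (n : ℤ) :
    ((X ([] : List A))⟦-n⟧ ⟶ C) ≃ₗ[A] Dual.HD A C n :=
  (Linear.homCongr A ((shiftFunctor _ (-n)).mapIso nilIso) (Iso.refl C)).trans
    ((DMod.Cones.homNeg _ C n).trans (homUnitShiftEquiv C n))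

theorem exists_pow_smul_hom (C : Dual.D A) (f : A) (hC : ∀ (n : ℤ) (m : Dual.HD A C n), ∃ k : ℕ, f ^ k • m = 0) :
    ∀ (l : List A) (n : ℤ) (φ : (X l)⟦n⟧ ⟶ C), ∃ k : ℕ, f ^ k • φ = 0 := by
  intro l
  induction l with
  | nil =>
    intro n φ
    obtain ⟨n, rfl⟩ : ∃ n' : ℤ, n = -n' := ⟨-n, by lia⟩
    obtain ⟨k, hk⟩ := hC n (homNilEquiv C n φ)
    exact ⟨k, (homNilEquiv C n).injective (by rw [map_smul, hk, map_zero])⟩
  | cons a l ih =>
    intro n φ
    obtain ⟨g, h, hT⟩ := exists_triangle a l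
    have hT' := Triangle.shift_distinguished _ (rot_of_distTriang _ hT) n
    let S := (Triangle.shiftFunctor (Dual.D A) n).obj (Triangle.mk (a • 𝟙 (X l)) g h).rotate
    obtain ⟨k, hk⟩ : ∃ k, f ^ k • (S.mor₁ ≫ φ) = 0 := ih n _
    obtain ⟨ψ, hψ⟩ := Triangle.yoneda_exact₂ S hT' (f ^ k • φ) ((Linear.comp_smul _ _ _ _ _ _).trans hk)
    let ψ' : ((X l)⟦(1 : ℤ)⟧)⟦n⟧ ⟶ C := ψ
    obtain ⟨j, hj⟩ := ih (1 + n) (((shiftFunctorAdd (Dual.D A) 1 n).app (X l)).hom ≫ ψ')
    rw [← Linear.comp_smul] at hj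
    have hj' : f ^ j • ψ' = 0 := zero_of_epi_comp _ hj
    refine ⟨j + k, ?_⟩
    rw [pow_add, mul_smul]
    refine (congrArg (f ^ j • ·) hψ).trans ?_
    refine (Linear.comp_smul _ _ _ _ _ _).symm.trans ?_
    exact (congrArg (S.mor₂ ≫ ·) hj').trans comp_zero

theorem subsingleton_HD (C : Dual.D A) (n : ℤ) :
    ∀ (l : List A), (∀ f ∈ l, ∀ (i : ℤ) (m : Dual.HD A C i), ∃ k : ℕ, f ^ k • m = 0) →
      Subsingleton ((X l)⟦-n⟧ ⟶ C) → Subsingleton (Dual.HD A C n) := by
  intro l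
  induction l with
  | nil => exact fun _ h => (homNilEquiv C n).symm.toEquiv.subsingleton
  | cons a l ih =>
    intro htor h
    refine ih (fun f hf => htor f (List.mem_cons_of_mem a hf)) (subsingleton_of_forall_eq 0 fun φ => ?_)
    have hinj : ∀ χ : (X l)⟦-n⟧ ⟶ C, a • χ = 0 → χ = 0 := by
      intro χ hχ
      obtain ⟨g, g', hT⟩ := exists_triangle a l
      have hT' := Triangle.shift_distinguished _ hT (-n)
      obtain ⟨ψ, hψ⟩ := Triangle.yoneda_exact₂ _ hT' χ (by
        show ((-n).negOnePow • (a • 𝟙 (X l))⟦-n⟧') ≫ χ = 0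
        rw [Functor.map_smul, CategoryTheory.Functor.map_id, Linear.units_smul_comp, Linear.smul_comp,
          Category.id_comp, hχ, smul_zero])
      have h' : Subsingleton ((X (a :: l))⟦-n⟧ ⟶ C) := h
      have hψ0 : ψ = 0 := @Subsingleton.elim _ h' ψ 0
      exact hψ.trans ((congrArg (_ ≫ ·) hψ0).trans comp_zero)
    obtain ⟨k, hk⟩ := exists_pow_smul_hom C a (htor a List.mem_cons_self) l (-n) φ
    induction k with
    | zero => simpa using hk
    | succ k ihk => exact ihk (hinj _ (by rw [smul_smul, ← pow_succ', hk]))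

theorem subsingleton_hom_of_isLE : ∀ (l : List A) (Y : Dual.D A) (b : ℤ), Y.IsLE b →
    ∀ n : ℤ, b + l.length < n → Subsingleton ((X l)⟦-n⟧ ⟶ Y) := by
  intro l
  induction l with
  | nil =>
    intro Y b hY n hn
    have := subsingleton_HD_of_isLE Y b (i := n) (by simpa using hn)
    exact (homNilEquiv Y n).toEquiv.subsingleton
  | cons a l ih =>
    intro Y b hY n hn
    obtain ⟨g, h, hT⟩ := exists_triangle a l
    rw [List.length_cons] at hn
    push_cast at hn
    have h₁ := ih Y b hY n (by lia)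
    have h₂ := ih Y b hY (n - 1) (by lia)
    refine subsingleton_hom_from_obj₂ (Triangle.shift_distinguished _ (rot_of_distTriang _ hT) (-n)) Y
      h₁ ?_
    exact (Iso.homCongr ((shiftFunctorAdd' (Dual.D A) 1 (-n) (-(n - 1)) (by lia)).app (X l))
      (Iso.refl Y)).symm.subsingleton

theorem isLE_X : ∀ l : List A, (X l).IsLE 0 := by
  intro l
  induction l with
  | nil => exact DR.Basic.isLE_of_iso' nilIso.symm (inferInstanceAs ((Dual.inD A A).IsLE 0))
  | cons a l ih =>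
    obtain ⟨g, h, hT⟩ := exists_triangle a l
    exact DR.Basic.isLE_obj₃ _ hT 0 (DR.Basic.isLE_mono ih (by lia)) ih

theorem exists_smul_id_eq_zero : ∀ (l : List A), ∀ f ∈ l, ∃ p : ℕ, f ^ p • 𝟙 (X l) = 0 := by
  intro l
  induction l with
  | nil => simp
  | cons a l ih =>
    intro f hf
    obtain ⟨g, h, hT⟩ := exists_triangle a l
    have key : ∀ c : A, c • g = 0 → c • h = 0 → (c * c) • 𝟙 (X (a :: l)) = 0 := by
      intro c hg hh
      obtain ⟨s, hs⟩ := Triangle.yoneda_exact₃ _ hT (c • 𝟙 (X (a :: l))) (by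
        show g ≫ (c • 𝟙 (X (a :: l))) = 0
        rw [Linear.comp_smul, Category.comp_id, hg])
      obtain ⟨t, ht⟩ : ∃ t : (X l)⟦(1 : ℤ)⟧ ⟶ X (a :: l), c • 𝟙 (X (a :: l)) = h ≫ t := ⟨s, hs⟩
      rw [mul_smul, ht, ← Linear.smul_comp, hh, zero_comp]
    rcases List.mem_cons.1 hf with rfl | hf
    · refine ⟨2, ?_⟩
      rw [pow_two]
      refine key f ?_ ?_
      · have h0 : (f • 𝟙 (X l)) ≫ g = 0 := comp_distTriang_mor_zero₁₂ _ hT
        simpa using h0
      · have h0 : h ≫ (f • 𝟙 (X l))⟦(1 : ℤ)⟧' = 0 := comp_distTriang_mor_zero₃₁ _ hT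
        simpa using h0
    · obtain ⟨p, hp⟩ := ih f hf
      refine ⟨p + p, ?_⟩
      rw [pow_add]
      refine key _ ?_ ?_
      · rw [show f ^ p • g = (f ^ p • 𝟙 (X l)) ≫ g by simp, hp, zero_comp]
      · rw [show f ^ p • h = h ≫ (f ^ p • 𝟙 (X l))⟦(1 : ℤ)⟧' by simp, hp, Functor.map_zero, comp_zero]

end Groth.Agent.Lib.KoszulOrth36.Algebra
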