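import Groth.Agent.Lib.KoszulOrth36.Sheaf
import Mathlib.AlgebraicGeometry.Morphisms.QuasiCompact

/-!
The complement of `V(f₁, …, f_r)` is quasi-compact and restriction keeps quasi-coherent cohomology.
-/

set_option autoImplicit false

universe u

open CategoryTheory Limits AlgebraicGeometry TopologicalSpace

attribute [local instance] HasDerivedCategory.standard

namespace Groth.Agent.Lib.KoszulOrth36.Qc

theorem quasiCompact_ι (A : Type u) [CommRing A] (fs : List A) :
    QuasiCompact (Sheaf.U A fs).ι := by
  have hs : {a : A | a ∈ fs}.Finite := List.finite_toSet fs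
  have hr : IsRetrocompact (((Sheaf.U A fs : (Spec (CommRingCat.of A)).Opens)) : Set ↥(Spec (CommRingCat.of A))) := by
    change IsRetrocompact (PrimeSpectrum.zeroLocus (R := A) _)ᶜ
    rw [PrimeSpectrum.zeroLocus_span]
    exact PrimeSpectrum.isRetrocompact_zeroLocus_compl hs
  rw [quasiCompact_iff_isSpectralMap]
  refine ⟨(Sheaf.U A fs).ι.continuous, fun s ho hc => ?_⟩
  rw [Topology.IsInducing.isCompact_iff (Sheaf.U A fs).ι.isOpenEmbedding.isInducing,
    Set.image_preimage_eq_inter_range, Scheme.Opens.range_ι, Set.inter_comm]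
  exact hr hc ho

theorem isQCohD_restrict {X : Scheme.{u}} (U : X.Opens)
    [PreservesFiniteLimits (Scheme.Modules.restrictFunctor U.ι)] (E : DCoh.D X) (hE : DCoh.IsQCohD E) :
    DCoh.IsQCohD ((DCoh.restrictD U.ι).obj E) := fun i => by
  haveI : (DCoh.HD E i).IsQuasicoherent := hE i
  exact (WayOut.Scheme.qc _).prop_of_iso (Perfect.Coherent.homologyIso U.ι E i).symm
    (by show ((DCoh.HD E i).restrict U.ι).IsQuasicoherent; infer_instance)

end Groth.Agent.Lib.KoszulOrth36.Qc
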